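import Cfsg.Agent.Lib.Spor.MonsterType.Seven.HeldLayer

/-!
# An elementary abelian subgroup of order 16 among the fixed points
-/

set_option autoImplicit false

namespace CfsgLib.Spor.MonsterType.Seven

open Subgroup CfsgLib.Spor CfsgLib.Spor.Leech
open Cfsg (leechLattice Co0 sqNorm GolayPt)

noncomputable section

theorem uList_closed : (0 :: uList).all (fun n => decide (n < 64) && (n == 0 || longs.contains n) &&
    (0 :: uList).all fun m => (0 :: uList).contains (n ^^^ m)) = true ∧ (0 :: uList).Nodup ∧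
    (0 :: uList).length = 8 := by decide +kernel

variable {G : Type*} [Group G] [Finite G] {z : G} {Q : Subgroup G} {R : leechLattice → G → Prop}
  {π : ↥(centralizer ({z} : Set G)) →* Cfsg.Spor.Co1} {D : Data z Q R π} {b : G}

theorem Elt.exists_plus (E : Elt D b) : ∃ U : Subgroup G, U ≤ fixed Q b ∧ Nat.card U = 2 ^ 4 ∧
    (∀ a ∈ U, ∀ c ∈ U, a * c = c * a) ∧ ∀ a ∈ U, a * a = 1 := by
  classical
  obtain ⟨hall, hnd, hlen⟩ := uList_closed
  simp only [List.all_eq_true, Bool.and_eq_true, decide_eq_true_eq, Bool.or_eq_true, beq_iff_eq,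
    List.contains_iff_mem] at hall
  let S : Set G := {q | ∃ t : ℕ × Bool, t.1 ∈ 0 :: uList ∧ elt D t = q}
  have hz0 : elt D (0, false) = 1 ∨ elt D (0, false) = z :=
    (D.ker (pick_spec D 0)).2 ⟨0, by rw [rep_zero, add_zero]⟩
  have hzflip : ∀ n : ℕ, ∀ c : Bool, elt D (n, c) * z = elt D (n, !c) := fun n c => by
    cases c
    · rfl
    · show pick D n * z * z = pick D n
      rw [mul_assoc, D.zz, mul_one]
  have hone : (1 : G) ∈ S := by
    rcases hz0 with h | h
    · exact ⟨(0, false), List.mem_cons_self, h⟩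
    · exact ⟨(0, true), List.mem_cons_self, by rw [← show elt D (0, false) * z = elt D (0, true) from hzflip 0 false, h, D.zz]⟩
  have hsq : ∀ q ∈ S, q * q = 1 := by
    rintro _ ⟨⟨n, c⟩, hn, rfl⟩
    obtain ⟨⟨hn64, h0 | hl⟩, -⟩ := hall n hn
    · subst h0
      have h1 : ∀ x : G, x = 1 ∨ x = z → x * x = 1 := by rintro x (rfl | rfl) <;> simp [D.zz]
      refine h1 _ ?_
      cases c
      · exact hz0
      · rw [← show elt D (0, false) * z = elt D (0, true) from hzflip 0 false]
        rcases hz0 with h | h <;> rw [h]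
        · exact Or.inr (one_mul z)
        · exact Or.inl D.zz
    · exact E.elt_sq hn64 hl
  have hfix : ∀ q ∈ S, q ∈ fixed Q b := by
    rintro _ ⟨t, ht, rfl⟩
    exact E.elt_mem (hall t.1 ht).1.1
  have hzS : ∀ q ∈ S, q * z ∈ S := by
    rintro _ ⟨⟨n, c⟩, hn, rfl⟩
    exact ⟨(n, !c), hn, (hzflip n c).symm⟩
  have hmul : ∀ p ∈ S, ∀ q ∈ S, p * q ∈ S := by
    rintro _ ⟨⟨n, c⟩, hn, rfl⟩ _ ⟨⟨m, d⟩, hm, rfl⟩
    obtain ⟨⟨hn64, -⟩, hxor⟩ := hall n hn
    obtain ⟨⟨hm64, -⟩, -⟩ := hall m hm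
    obtain ⟨u, hu⟩ := (rep_xor hn64 hm64).2
    have h := D.add (pick_spec D n) (pick_spec D m)
    rw [hu] at h
    have hk : pick D n * pick D m ∈ S := by
      rcases D.unique_congr (pick_spec D (n ^^^ m)) h with e | e
      · exact ⟨(n ^^^ m, false), hxor m hm, e.symm⟩
      · exact ⟨(n ^^^ m, true), hxor m hm, e.symm⟩
    have hz : z * pick D m = pick D m * z := (D.half.cz _ (D.mem (pick_spec D m))).symm
    cases c <;> cases d <;> simp only [elt, Bool.false_eq_true, if_false, if_true]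
    · exact hk
    · rw [← mul_assoc]; exact hzS _ hk
    · rw [mul_assoc, hz, ← mul_assoc]; exact hzS _ hk
    · rw [mul_assoc, ← mul_assoc z, hz, mul_assoc (pick D m), D.zz, mul_one]; exact hk
  let U : Subgroup G :=
    { carrier := S
      mul_mem' := fun {p q} hp hq => hmul p hp q hq
      one_mem' := hone
      inv_mem' := fun {p} hp => by
        show p⁻¹ ∈ S
        rwa [inv_eq_of_mul_eq_one_right (hsq p hp)] }
  refine ⟨U, hfix, ?_, fun a ha c hc => ?_, hsq⟩
  · let f : {n : ℕ // n ∈ 0 :: uList} × Bool → U := fun t => ⟨elt D (t.1.1, t.2), (t.1.1, t.2), t.1.2, rfl⟩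
    rw [← Nat.card_congr (Equiv.ofBijective f ⟨?_, ?_⟩), Nat.card_prod]
    · have h8 : Nat.card {n : ℕ // n ∈ 0 :: uList} = 8 := by
        rw [Nat.card_eq_fintype_card, Fintype.card_of_subtype (0 :: uList).toFinset fun n => List.mem_toFinset,
          List.toFinset_card_of_nodup hnd, hlen]
      rw [h8]; simp
    · intro x y h
      have := E.elt_inj (t := (x.1.1, x.2)) (t' := (y.1.1, y.2)) (hall _ x.1.2).1.1 (hall _ y.1.2).1.1
        (congrArg Subtype.val h)
      simp only [Prod.mk.injEq] at this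
      exact Prod.ext (Subtype.ext this.1) this.2
    · rintro ⟨_, ⟨⟨n, c⟩, hn, rfl⟩⟩
      exact ⟨(⟨n, hn⟩, c), rfl⟩
  · have h := hsq _ (hmul a ha c hc)
    calc a * c = a * (a * c * (a * c)) * c := by rw [h, mul_one]
      _ = (a * a) * c * a * (c * c) := by group
      _ = c * a := by rw [hsq a ha, hsq c hc, one_mul, mul_one]

end

end CfsgLib.Spor.MonsterType.Seven
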