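import Cfsg.Agent.Lib.Spor.MonsterType.Seven.HeIso.Meet
import Cfsg.Agent.Lib.Spor.MonsterType.Seven.HeIso.Plus
import Cfsg.Agent.Lib.Spor.HeldTri.MeetPattern
import Cfsg.Agent.Lib.Spor.HeldTri.Identify
import Cfsg.Agent.Lib.Spor.HeldTri.Four
import Cfsg.Agent.Lib.Spor.HeldRecog.CentType
import Cfsg.Agent.Lib.Spor.HeldFusion.OtherCandidates

/-!
# The centralizer of the element of order seven, modulo it, is the Held group

The centralizer of the central involution is one of four candidates; three have too few conjugates of it in the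
extraspecial subgroup, and in the fourth the two extraspecial subgroups of a commuting pair meet in too few conjugates
for any pattern but that of the Held group.
-/

set_option autoImplicit false

namespace CfsgLib.Spor.MonsterType.Seven

open Subgroup CfsgLib.Spor CfsgLib.Spor.Leech CfsgLib.Spor.HeldRecog CfsgLib.Spor.HeldFusion
open Cfsg (leechLattice Co0 sqNorm GolayPt)

noncomputable section

variable {G : Type*} [Group G] [Finite G] {z : G} {Q : Subgroup G} {R : leechLattice → G → Prop}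
  {π : ↥(centralizer ({z} : Set G)) →* Cfsg.Spor.Co1} {D : Data z Q R π} {b : G}

/-- A candidate with the fused elements of the subgroup among the elements of a short list does not occur. -/
theorem ncard_lt_of_list {T : Tab} [Group (Cen T)] {H : Type*} [Group H] [Finite H] {t : H}
    (φ : Cen T ≃* centralizer ({t} : Set H)) (Rb : Subgroup ↥(centralizer ({t} : Set H))) (L : List ℕ)
    (h : ∀ x : Cen T, IsConj t (φ x : H) → x.val ∈ L) :
    Set.ncard {x : ↥(centralizer ({t} : Set H)) | x ∈ Rb ∧ IsConj t x.1} ≤ L.length := by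
  classical
  rw [← Nat.card_coe_set_eq]
  refine le_trans (Nat.card_le_card_of_injective (β := {n : ℕ // n ∈ L.toFinset}) (fun x : ↥{x : ↥(centralizer ({t} : Set H)) | x ∈ Rb ∧
      IsConj t x.1} => (⟨(φ.symm x.1).val, List.mem_toFinset.2 (h _ (by
        rw [MulEquiv.apply_symm_apply]; exact x.2.2))⟩ : {n : ℕ // n ∈ L.toFinset})) ?_) ?_
  · intro x y e
    exact Subtype.ext (φ.symm.injective (Cen.ext (congrArg (fun n : {n : ℕ // n ∈ L.toFinset} => n.1) e)))
  · rw [Nat.card_eq_fintype_card, Fintype.card_coe]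
    exact List.toFinset_card_le L

/-- **the centralizer modulo the element is the Held group** -/
theorem Elt.isoHe (E : Elt D b) (B : Subgroup G) (hB : B = zpowers b)
    [hn : (B.subgroupOf (centralizer (B : Set G))).Normal] :
    Cfsg.Spor.IsoHe (↥(centralizer (B : Set G)) ⧸ B.subgroupOf (centralizer (B : Set G))) := by
  subst hB
  classical
  set M := centralizer (zpowers b : Set G) with hM
  set N := (zpowers b).subgroupOf M with hN
  set pr : ↥M →* ↥M ⧸ N := QuotientGroup.mk' N with hpr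
  obtain ⟨zb, Rb, hRn, ⟨hzM, hzb⟩, ⟨hord, -, hext, hcard, -⟩, hC, ⟨e7⟩, h29, hmem⟩ :=
    E.held_setting (zpowers b) rfl
  have hMb : ∀ {m : G}, m ∈ M → m * b = b * m := fun h => mem_cent_zpowers.1 h
  have hsame : ∀ a c : ↥M, (a : G) ^ 4 = 1 → (c : G) ^ 4 = 1 → pr a = pr c → a = c := by
    intro a c ha hc e
    have hd : (c : G)⁻¹ * a ∈ zpowers b :=
      mem_subgroupOf.1 ((QuotientGroup.eq_one_iff (c⁻¹ * a)).1
        (by show pr (c⁻¹ * a) = 1; rw [map_mul, map_inv, e, inv_mul_cancel]))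
    obtain ⟨i, hi⟩ := mem_zpowers_iff.1 hd
    have hcb : Commute (c : G) b := hMb c.2
    have ea : (a : G) = c * b ^ i := by rw [hi, mul_inv_cancel_left]
    have h4 : (b ^ i) ^ 4 = 1 := by rw [ea, (hcb.zpow_right i).mul_pow, hc, one_mul] at ha; exact ha
    exact Subtype.ext (by
      rw [ea, eq_one_of_four (E.pow_seven_of_zpowers (zpow_mem (mem_zpowers b) i)) h4, mul_one])
  have hz4 : z ^ 4 = 1 := E.pow_four D.core.mem
  -- lifts of conjugates
  have hlift : ∀ (m : ↥M) (a q : ↥M), (a : G) ^ 4 = 1 → (q : G) ^ 4 = 1 →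
      pr m * pr a * (pr m)⁻¹ = pr q → (q : G) = m * a * (m : G)⁻¹ := by
    intro m a q ha hq e
    have h := hsame (m * a * m⁻¹) q
      (show ((m : G) * a * (m : G)⁻¹) ^ 4 = 1 by rw [conj_pow, ha, mul_one, mul_inv_cancel]) hq
      (by rw [map_mul, map_mul, map_inv]; exact e)
    exact (congrArg Subtype.val h).symm
  -- an elementary subgroup of order sixteen
  have hplus : ∃ U : Subgroup Rb, Cfsg.IsElementaryAbelian 2 U ∧ Nat.card U = 2 ^ 4 := by
    obtain ⟨U, hUf, hUc, hUab, hUsq⟩ := E.exists_plus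
    have hUM : ∀ u ∈ U, u ∈ M := fun u hu => mem_cent_zpowers.2 (mem_centralizer_singleton_iff.1 (hUf hu).2)
    have hUC : ∀ u (hu : u ∈ U), pr ⟨u, hUM u hu⟩ ∈ centralizer ({zb} : Set (↥M ⧸ N)) := fun u hu => by
      rw [hzb, mem_centralizer_singleton_iff, show (QuotientGroup.mk ⟨z, hzM⟩ : ↥M ⧸ N) = pr ⟨z, hzM⟩ from rfl,
        ← map_mul, ← map_mul]
      exact congrArg pr (Subtype.ext (D.half.cz u (hUf hu).1))
    let j : U →* ↥(centralizer ({zb} : Set (↥M ⧸ N))) :=
      ((pr.comp (Subgroup.inclusion hUM)).codRestrict _ fun u => hUC u u.2)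
    have hjR : ∀ u : U, j u ∈ Rb := fun u => (hmem _).2 ⟨u, hUM u u.2, hUf u.2, rfl⟩
    let k : U →* Rb := j.codRestrict Rb hjR
    have hk : Function.Injective k := fun u v e => by
      have e' : pr ⟨u, hUM u u.2⟩ = pr ⟨v, hUM v v.2⟩ :=
        congrArg (fun r : Rb => ((r : ↥(centralizer ({zb} : Set (↥M ⧸ N)))) : ↥M ⧸ N)) e
      exact Subtype.ext (congrArg (fun w : ↥M => (w : G))
        (hsame ⟨u, hUM u u.2⟩ ⟨v, hUM v v.2⟩ (E.pow_four (hUf u.2).1) (E.pow_four (hUf v.2).1) e'))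
    refine ⟨k.range, ⟨⟨⟨fun a c => ?_⟩⟩, fun a ha => ?_⟩, ?_⟩
    · obtain ⟨u, hu⟩ := a.2
      obtain ⟨v, hv⟩ := c.2
      refine Subtype.ext ?_
      show (a : Rb) * c = c * a
      rw [← hu, ← hv, ← map_mul, ← map_mul]
      exact congrArg k (Subtype.ext (hUab u u.2 v v.2))
    · obtain ⟨u, hu⟩ := ha
      rw [← hu, ← map_pow, pow_two, show u * u = 1 from Subtype.ext (hUsq u u.2), map_one]
    · rw [← Nat.card_congr (MonoidHom.ofInjective hk).toEquiv, hUc]
  haveI := hRn
  rcases centralizer_model zb hord Rb hext hcard hplus hC e7 with ⟨φ, h⟩ | ⟨φ, h⟩ | ⟨φ, h⟩ | ⟨φ, h⟩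
  · have he : ((φ ⟨64, by norm_num⟩ : _) : ↥M ⧸ N) = zb := by
      rw [show (⟨64, by norm_num⟩ : Cen splitTab) = Cen.ofCode splitTab 64 from Cen.ext (by simp [Cen.ofCode])]
      exact h
    have hlow : ∀ x : Cen splitTab, φ x ∈ Rb ↔ x.val < 128 := by
      intro x
      have hU : Nat.card (Rb.comap φ.toMonoidHom) = 128 := by
        rw [Nat.card_congr ((φ.toEquiv.subtypeEquiv fun x => Iff.rfl :
          {x // x ∈ Rb.comap φ.toMonoidHom} ≃ {x // x ∈ Rb})), hcard]
        norm_num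
      exact HeldTri.normal_eq_low (Rb.comap φ.toMonoidHom) hU x
    have hback : ∀ x : Cen splitTab, x.val < 128 → ∃ q : ↥M, (q : G) ∈ fixed Q b ∧ incl φ x = pr q := by
      intro x hx
      obtain ⟨q, hq, hqf, e⟩ := (hmem _).1 ((hlow x).2 hx)
      exact ⟨⟨q, hq⟩, hqf, e⟩
    have hsymm : ∀ (c : ↥M ⧸ N) (x : Cen splitTab), x.val < 128 → incl φ x = c * zb * c⁻¹ → c * zb * c⁻¹ ≠ zb →
        ∃ y : Cen splitTab, y.val < 128 ∧ incl φ y = c⁻¹ * zb * c := by
      intro c x hx hxc hne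
      obtain ⟨m, rfl⟩ := QuotientGroup.mk'_surjective N c
      obtain ⟨q, hq, hqx⟩ := hback x hx
      have hqm := hlift m ⟨z, hzM⟩ q hz4 (E.pow_four hq.1) (by rw [← hqx, hxc, hzb]; rfl)
      simp only at hqm
      have hne' : (m : G) * z * (m : G)⁻¹ ≠ z := fun e' => hne (by
        rw [← hxc, hqx, hzb, show q = ⟨z, hzM⟩ from Subtype.ext (hqm.trans e')]; rfl)
      obtain ⟨q0, hq0, e0⟩ := E.centre_mem (g := (m : G)) (hqm ▸ hq) hne'
      have e0' : (m : G) * q0 * (m : G)⁻¹ = z := e0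
      have hq0' : q0 = (m : G)⁻¹ * z * m := by rw [← e0']; group
      have hq0M : q0 ∈ M := hq0' ▸ M.mul_mem (M.mul_mem (M.inv_mem m.2) hzM) m.2
      have hq0f : q0 ∈ fixed Q b := ⟨hq0, mem_centralizer_singleton_iff.2 (hMb hq0M)⟩
      have hC0 : pr ⟨q0, hq0M⟩ ∈ centralizer ({zb} : Set (↥M ⧸ N)) := by
        rw [hzb, mem_centralizer_singleton_iff, show (QuotientGroup.mk ⟨z, hzM⟩ : ↥M ⧸ N) = pr ⟨z, hzM⟩ from rfl,
          ← map_mul, ← map_mul]
        exact congrArg pr (Subtype.ext (D.half.cz q0 hq0))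
      obtain ⟨y, hy⟩ := φ.surjective ⟨_, hC0⟩
      refine ⟨y, (hlow y).1 ((hmem _).2 ⟨q0, hq0M, hq0f, by rw [hy]; rfl⟩), ?_⟩
      show ((φ y : _) : ↥M ⧸ N) = _
      rw [hy]
      show pr ⟨q0, hq0M⟩ = (pr m)⁻¹ * zb * pr m
      rw [hzb, show (QuotientGroup.mk ⟨z, hzM⟩ : ↥M ⧸ N) = pr ⟨z, hzM⟩ from rfl]
      rw [← map_inv, ← map_mul, ← map_mul]
      exact congrArg pr (Subtype.ext hq0')
    have hmeet : ∀ (c : ↥M ⧸ N) (x y : Cen splitTab), x.val < 128 → y.val < 128 → c * zb * c⁻¹ ≠ zb →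
        (∃ s : Cen splitTab, s.val < 128 ∧ incl φ s = c * zb * c⁻¹) → incl φ x = c * incl φ y * c⁻¹ →
        IsConj zb (incl φ x) →
        incl φ x = zb ∨ incl φ x = c * zb * c⁻¹ ∨ incl φ x = c * zb * c⁻¹ * zb := by
      rintro c x y hx hy hne ⟨s, hs, hsc⟩ hxy hxc
      obtain ⟨m, rfl⟩ := QuotientGroup.mk'_surjective N c
      obtain ⟨q, hq, hqx⟩ := hback x hx
      obtain ⟨q0, hq0, hqy⟩ := hback y hy
      obtain ⟨qs, hqs, hqsx⟩ := hback s hs
      obtain ⟨k', hk'⟩ := isConj_iff.1 hxc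
      obtain ⟨k, rfl⟩ := QuotientGroup.mk'_surjective N k'
      have hsm := hlift m ⟨z, hzM⟩ qs hz4 (E.pow_four hqs.1) (by rw [← hqsx, hsc, hzb]; rfl)
      have hxm := hlift m q0 q (E.pow_four hq0.1) (E.pow_four hq.1) (by rw [← hqy, ← hxy, hqx])
      have hkm := hlift k ⟨z, hzM⟩ q hz4 (E.pow_four hq.1) (by
        rw [← hqx, ← hk', hzb]; rfl)
      simp only at hsm hkm
      have hne' : (m : G) * z * (m : G)⁻¹ ≠ z := fun e' => hne (by
        rw [← hsc, hqsx, hzb, show qs = ⟨z, hzM⟩ from Subtype.ext (hsm.trans e')]; rfl)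
      rcases E.meet (g := (m : G)) (hsm ▸ hqs) hne' hq ⟨q0, hq0.1, hxm.symm⟩
        (isConj_iff.2 ⟨(k : G), hkm.symm⟩) with e' | e' | e'
      · left
        rw [hqx, hzb, show q = ⟨z, hzM⟩ from Subtype.ext e']; rfl
      · right; left
        rw [hqx, ← hsc, hqsx, show q = qs from Subtype.ext (e'.trans hsm.symm)]
      · right; right
        rw [hqx, ← hsc, hqsx, hzb, show q = qs * ⟨z, hzM⟩ from Subtype.ext (by rw [e', coe_mul, hsm]), map_mul]
        rfl
    have h29' : {x : Cen splitTab | x.val < 128 ∧ IsConj zb (incl φ x)}.ncard = 29 := by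
      rw [← h29, ← Nat.card_coe_set_eq, ← Nat.card_coe_set_eq]
      exact Nat.card_congr (φ.toEquiv.subtypeEquiv fun x => and_congr (hlow x).symm Iff.rfl)
    have h107 := HeldTri.patt_eq_of_meet φ he hord h29' hsymm hmeet
    exact HeldTri.iso_held φ he hord (HeldTri.gen0_oneOhSeven φ he hord h107) h107
  · exfalso
    have := ncard_lt_of_list φ Rb [64] fun x hx => by
      rw [splitTwist_fixed hord φ (by
        rw [show (⟨64, by norm_num⟩ : Cen splitTwistTab) = Cen.ofCode splitTwistTab 64 from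
          Cen.ext (by simp [Cen.ofCode])]
        exact h) x hx]
      exact List.mem_cons_self
    simp only [List.length_cons, List.length_nil] at this
    omega
  · exfalso
    have := ncard_lt_of_list φ Rb (64 :: uniCClasses.getD 1 []) fun x hx => by
      by_cases hx0 : x = ⟨64, by norm_num⟩
      · rw [hx0]; exact List.mem_cons_self
      · refine List.mem_cons_of_mem _ (uni_fused_class hord φ ?_ x hx hx0)
        rw [show (⟨64, by norm_num⟩ : Cen uniTab) = Cen.ofCode uniTab 64 from Cen.ext (by simp [Cen.ofCode])]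
        exact h
    have hl : (uniCClasses.getD 1 []).length ≤ 14 := by decide +kernel
    simp only [List.length_cons] at this
    omega
  · exfalso
    have := ncard_lt_of_list φ Rb [64] fun x hx => by
      rw [uniTwist_fixed hord φ (by
        rw [show (⟨64, by norm_num⟩ : Cen uniTwistTab) = Cen.ofCode uniTwistTab 64 from
          Cen.ext (by simp [Cen.ofCode])]
        exact h) x hx]
      exact List.mem_cons_self
    simp only [List.length_cons, List.length_nil] at this
    omega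

end

end CfsgLib.Spor.MonsterType.Seven
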