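import Cfsg.Agent.Lib.Spor.MonsterType.Seven.Main
import Cfsg.Agent.Lib.Spor.Leech.SignedMoves

/-!
# Conjugates of `z` common to two of the extraspecial subgroups and commuting with the element of order seven

For `s` a conjugate of `z` in `Q` commuting with `b`, the only conjugates of `z` in `Q ∩ Q_s` commuting with `b` are
`z`, `s` and `s * z`: a sign change moves every long fixed class except that of `s` by more than the class of `s`.
-/

set_option autoImplicit false

namespace CfsgLib.Spor.MonsterType.Seven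

open Subgroup CfsgLib.Spor CfsgLib.Spor.Leech
open Cfsg (leechLattice Co0 sqNorm GolayPt)

noncomputable section

/-- A code word whose sign change separates the long classes. -/
def sepMask : ℕ := 14919680

/-- The sign change of a mask on the coordinates. -/
def maskSign (m : ℕ) (x : GolayPt → ℤ) : GolayPt → ℤ := fun p => if m.testBit (ptIdx p) then -x p else x p

theorem sep_facts : codeTest sepMask = true ∧ longs.all (fun n => n == 32 ||
    (!congTest (six (repTab.getD n 0)) (maskSign sepMask (six (repTab.getD n 0))) &&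
      !congTest (fun p => six (repTab.getD n 0) p + six (repTab.getD 32 0) p)
        (maskSign sepMask (six (repTab.getD n 0))))) = true := by
  decide +kernel

theorem congTest_of_cong {v w : leechLattice} (h : Cong v w) :
    congTest (v : GolayPt → ℤ) (w : GolayPt → ℤ) = true := by
  have h2 := test_of_cong h
  obtain ⟨a, ha⟩ := h
  simp only [congTest, Bool.and_eq_true, decide_eq_true_eq]
  refine ⟨h2, leechTest_of_mem ?_⟩
  have : (fun p => ((w : GolayPt → ℤ) p - (v : GolayPt → ℤ) p) / 2) = (a : GolayPt → ℤ) := by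
    funext p
    have := congrFun (congrArg Subtype.val ha) p
    simp only [AddSubgroup.coe_add, Pi.add_apply] at this
    omega
  rw [this]; exact a.2

variable {G : Type*} [Group G] [Finite G] {z : G} {Q : Subgroup G} {R : leechLattice → G → Prop}
  {π : ↥(centralizer ({z} : Set G)) →* Cfsg.Spor.Co1} {D : Data z Q R π} {b : G}

omit [Finite G] in
theorem fixed_congr {b' : G} (h : zpowers b = zpowers b') : fixed Q b = fixed Q b' := by
  rw [fixed, fixed, ← centralizer_closure {b}, ← centralizer_closure {b'}, ← zpowers_eq_closure,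
    ← zpowers_eq_closure, h]

/-- In standard position, with `s` over the class of the standard cross. -/
theorem Elt.meet_std (E : Elt D b) {g : G} (hgQ : g * z * g⁻¹ ∈ Q) (hne : g * z * g⁻¹ ≠ z) {v : leechLattice}
    (hv : R v (g * z * g⁻¹)) (hcv : Cong (eight none) v) {q : G} (hq : q ∈ fixed Q b)
    (hq' : q ∈ Q.map (MulAut.conj g).toMonoidHom) (hconj : IsConj z q) :
    q = z ∨ q = g * z * g⁻¹ ∨ q = g * z * g⁻¹ * z := by
  set s := g * z * g⁻¹ with hs
  by_cases hqz : q = z
  · exact Or.inl hqz
  right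
  obtain ⟨⟨n, c⟩, hn, hl, e⟩ := E.long_of_conj hq hqz hconj
  have hR : R (rep n) q ∨ R (rep n) (q * z) := by
    rw [← e]
    cases c
    · exact Or.inl (pick_spec D n)
    · right
      show R _ (pick D n * z * z)
      rw [mul_assoc, D.zz, mul_one]
      exact pick_spec D n
  have hu32 : Cong (rep 32) v := by rw [rep_std]; exact hcv
  by_cases h32 : n = 32
  · -- the class of `s`
    subst h32
    obtain ⟨u, hu⟩ := hu32.symm
    rcases hR with hR | hR <;> rw [hu] at hR <;> rcases D.unique_congr hv hR with e' | e'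
    · exact Or.inl e'
    · exact Or.inr e'
    · right
      rw [← e', mul_assoc, D.zz, mul_one]
    · exact Or.inl (mul_right_cancel e')
  exfalso
  obtain ⟨h, w, ⟨hw, hhw⟩, -, himg, -⟩ := D.image_conjugate hgQ hne
  rw [← hs] at hw
  have hcw : Cong (eight none) w := hcv.trans (D.congr_of_fixed hv hw)
  have hh : h⁻¹ ∈ crossStab := by
    refine mem_crossStab_of_cong ?_
    rw [show h⁻¹ • eight none = w by rw [← hhw, inv_smul_smul]]
    exact hcw
  have hm := pts_supports sep_facts.1
  -- a preimage of the sign change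
  let ε : crossStab := ⟨sgnAut hm, monoAut_preserves _ hm⟩
  let k : crossStab := ⟨h⁻¹, hh⟩
  have hkε : k⁻¹ * ε * k⁻¹⁻¹ ∈ signs := signs_normal.conj_mem ε ⟨_, hm, rfl⟩ k⁻¹
  have hmem : crossMap h (k⁻¹ * ε * k⁻¹⁻¹) ∈ ((Q.map (MulAut.conj g).toMonoidHom ⊓ centralizer ({z} : Set G)).subgroupOf
      (centralizer ({z} : Set G))).map π := himg ▸ mem_map_of_mem _ hkε
  obtain ⟨x, hx, hxπ⟩ := hmem
  have hxQ : (x : G) ∈ Q.map (MulAut.conj g).toMonoidHom := (mem_subgroupOf.1 hx).1
  have hπ : π x = QuotientGroup.mk (sgnAut hm) := by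
    rw [hxπ, crossMap_apply]
    refine congrArg _ ?_
    show h⁻¹ * ((h⁻¹)⁻¹ * sgnAut hm * ((h⁻¹)⁻¹)⁻¹) * h = sgnAut hm
    group
  have hcomm := (D.half.conj g).comm _ hxQ q hq'
  obtain ⟨r, hr⟩ : ∃ r, R (rep n) r ∧ (r = q ∨ r = q * z) := by
    rcases hR with hR | hR
    · exact ⟨q, hR, Or.inl rfl⟩
    · exact ⟨q * z, hR, Or.inr rfl⟩
  have hxz : (x : G) * z * (x : G)⁻¹ = z := mul_inv_eq_iff_eq_mul.2 (mem_centralizer_singleton_iff.1 x.2)
  have hsz : s * z = z * s := D.half.cz _ hgQ
  have hmove : (x : G) * r * (x : G)⁻¹ = r ∨ (x : G) * r * (x : G)⁻¹ = r * s := by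
    have hxq : (x : G) * q * (x : G)⁻¹ = q ∨ (x : G) * q * (x : G)⁻¹ = q * s := by
      rcases hcomm with h1 | h1
      · exact Or.inl (mul_inv_eq_one.1 h1)
      · right
        rw [mul_inv_eq_iff_eq_mul] at h1
        rw [h1]
        exact ((D.half.conj g).cz q hq').symm
    rcases hr.2 with rfl | rfl
    · exact hxq
    · rw [show (x : G) * (q * z) * (x : G)⁻¹ = ((x : G) * q * (x : G)⁻¹) * ((x : G) * z * (x : G)⁻¹) by group, hxz]
      rcases hxq with h1 | h1 <;> rw [h1]
      · exact Or.inl rfl
      · exact Or.inr (by rw [mul_assoc, hsz, ← mul_assoc])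
  have hact := D.conj x hπ hr.1
  have hnl : n < 64 := hn
  have hf := List.all_eq_true.1 sep_facts.2 n hl
  simp only [Bool.or_eq_true, beq_iff_eq, h32, false_or, Bool.and_eq_true, Bool.not_eq_eq_eq_not, Bool.not_true] at hf
  have hcoe : ((sgnAut hm • rep n : leechLattice) : GolayPt → ℤ) = maskSign sepMask (six (repTab.getD n 0)) := by
    funext p
    rw [sgnAut_smul, rep_coe hnl]
    simp only [mem_pts, maskSign]
  rcases hmove with hm' | hm' <;> rw [hm'] at hact
  · have := congTest_of_cong (D.congr_of_fixed hr.1 hact)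
    rw [rep_coe hnl, hcoe] at this
    exact absurd this (by rw [hf.1]; exact Bool.false_ne_true)
  · have h2 := D.add hr.1 hv
    have := congTest_of_cong (((Cong.refl (rep n)).add hu32).trans (D.congr_of_fixed h2 hact))
    rw [AddSubgroup.coe_add, rep_coe hnl, rep_coe (n := 32) (by norm_num), hcoe] at this
    exact absurd this (by rw [show (six (repTab.getD n 0) + six (repTab.getD 32 0)) = fun p =>
      six (repTab.getD n 0) p + six (repTab.getD 32 0) p from rfl, hf.2]; exact Bool.false_ne_true)

/-- **the only common conjugates** -/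
theorem Elt.meet (E : Elt D b) {g : G} (hg : g * z * g⁻¹ ∈ fixed Q b) (hne : g * z * g⁻¹ ≠ z) {q : G}
    (hq : q ∈ fixed Q b) (hq' : q ∈ Q.map (MulAut.conj g).toMonoidHom) (hconj : IsConj z q) :
    q = z ∨ q = g * z * g⁻¹ ∨ q = g * z * g⁻¹ * z := by
  have hgb : b * (g * z * g⁻¹) = g * z * g⁻¹ * b := (mem_centralizer_singleton_iff.1 hg.2).symm
  have hle : zpowers b ≤ centralizer ({z, g * z * g⁻¹} : Set G) := by
    refine zpowers_le.2 (mem_centralizer_iff.2 fun x hx => ?_)
    rcases hx with rfl | rfl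
    · exact E.bz.symm
    · exact hgb.symm
  obtain ⟨R', π', D', b', hb', E', v, hv, hcv⟩ := exists_standard_at D E.weak hg.1 hne (zpowers b) hle
    (by rw [Nat.card_zpowers, E.ord, card_factor_seven D hg.1 hne, pow_one])
  rw [fixed_congr hb'] at hq
  exact E'.meet_std hg.1 hne hv hcv hq hq' hconj

/-- The symmetry. -/
theorem Elt.centre_mem (E : Elt D b) {g : G} (hg : g * z * g⁻¹ ∈ fixed Q b) (hne : g * z * g⁻¹ ≠ z) :
    z ∈ Q.map (MulAut.conj g).toMonoidHom :=
  (D.duo hg.1 hne).mem

end

end CfsgLib.Spor.MonsterType.Seven
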